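import Mathlib

/-! Binary forms: dimension and multiplication maps. -/

namespace Groth.Agent.BinForm
open MvPolynomial

variable {K : Type*} [Field K]

instance finite_forms (d : ℕ) : Module.Finite K (homogeneousSubmodule (Fin 2) K d) :=
  Module.Finite.iff_fg.2 (homogeneousSubmodule_fg _ _ _)

lemma finrank_forms (d : ℕ) :
    Module.finrank K (homogeneousSubmodule (Fin 2) K d) = d + 1 := by
  classical
  have e : homogeneousSubmodule (Fin 2) K d = restrictSupport K {s | s.degree = d} :=
    homogeneousSubmodule_eq_finsupp_supported _ _ d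
  have hs : {s : Fin 2 →₀ ℕ | s.degree = d} = ↑((Finset.univ : Finset (Fin 2)).finsuppAntidiag d) := by
    ext s; simp [Finsupp.degree_eq_sum]
  rw [e, hs, Module.finrank_eq_card_basis (basisRestrictSupport K _)]
  simp only [Finset.coe_sort_coe, Fintype.card_coe]
  rw [Finset.card_finsuppAntidiag_nat_eq_choose, Finset.card_univ, Fintype.card_fin,
    show 2 + d - 1 = d + 1 by omega, Nat.choose_succ_self_right]

/-- multiplication by a form, as a map between degree pieces -/
noncomputable def mulForm {a b c : ℕ} (h : a + b = c) :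
    homogeneousSubmodule (Fin 2) K a →ₗ[K]
      homogeneousSubmodule (Fin 2) K b →ₗ[K] homogeneousSubmodule (Fin 2) K c :=
  LinearMap.mk₂ K (fun x y => ⟨x.1 * y.1, h ▸ IsHomogeneous.mul x.2 y.2⟩)
    (fun _ _ _ => Subtype.ext (add_mul _ _ _)) (fun _ _ _ => Subtype.ext (smul_mul_assoc _ _ _))
    (fun _ _ _ => Subtype.ext (mul_add _ _ _)) (fun _ _ _ => Subtype.ext (mul_smul_comm _ _ _))

@[simp] lemma mulForm_coe {a b c : ℕ} (h : a + b = c) (x : homogeneousSubmodule (Fin 2) K a)
    (y : homogeneousSubmodule (Fin 2) K b) : (mulForm h x y : MvPolynomial (Fin 2) K) = x.1 * y.1 := rfl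

/-- If `U` has small codimension, some nonzero form of degree `a` multiplies all forms of degree `b` into `U`. -/
lemma exists_mul_mem {a b c m : ℕ} (h : a + b = c) (U : Submodule K (MvPolynomial (Fin 2) K))
    (hU : U ≤ homogeneousSubmodule (Fin 2) K c) (hm : Module.finrank K U + m = c + 1)
    (hlt : (b + 1) * m < a + 1) :
    ∃ g ∈ homogeneousSubmodule (Fin 2) K a, g ≠ 0 ∧
      ∀ h ∈ homogeneousSubmodule (Fin 2) K b, g * h ∈ U := by
  let U' := U.comap (homogeneousSubmodule (Fin 2) K c).subtype
  have e : Module.finrank K U' = Module.finrank K U :=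
    (Submodule.comapSubtypeEquivOfLe hU).finrank_eq
  have hq := Submodule.finrank_quotient_add_finrank U'
  rw [finrank_forms, e] at hq
  let Φ : homogeneousSubmodule (Fin 2) K a →ₗ[K]
      homogeneousSubmodule (Fin 2) K b →ₗ[K] homogeneousSubmodule (Fin 2) K c ⧸ U' :=
    (mulForm h).compr₂ U'.mkQ
  have : Φ.ker ≠ ⊥ := LinearMap.ker_ne_bot_of_finrank_lt (by
    rw [Module.finrank_linearMap, finrank_forms, finrank_forms]
    calc (b + 1) * _ = (b + 1) * m := by congr 1; omega
      _ < a + 1 := hlt)
  obtain ⟨g, hg, hg0⟩ := Submodule.exists_mem_ne_zero_of_ne_bot this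
  refine ⟨g.1, g.2, fun h0 => hg0 (Subtype.ext h0), fun y hy => ?_⟩
  have := LinearMap.congr_fun (LinearMap.mem_ker.1 hg) ⟨y, hy⟩
  exact (Submodule.Quotient.mk_eq_zero U').1 this

end Groth.Agent.BinForm
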